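import Groth.Agent.SerreDual.ExtShTensor
import Groth.Agent.SerreDual.ExtShBasic
import Groth.Agent.DQCoh.Local
import Groth.Agent.SiteCoh.ExtAdj

/-!
# Ext out of tensor products with finite locally free modules
-/

set_option autoImplicit false
set_option backward.isDefEq.respectTransparency false
set_option linter.style.haveILetI false

universe u

open CategoryTheory CategoryTheory.Abelian CategoryTheory.Limits AlgebraicGeometry Opposite
open Groth.Agent.Coherent Groth.Agent.SerreDual Groth.Agent.AmpleLib

namespace Groth.Agent.ExtLF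

variable {X : Scheme.{u}} [HasExt.{u} X.Modules] (E : X.Modules)

/-- Ext into an internal Hom out of a finite locally free module. -/
theorem nonempty_ext_internalHom (hE : FlatMod.IsFinLocFree E) (F G : X.Modules) (p : ℕ) :
    Nonempty (Ext F (internalHom E G) p ≃+ Ext (CohB1.tensorMod E F) G p) := by
  haveI := preservesFiniteLimits_internalHom E
  haveI := preservesFiniteColimits_internalHom hE
  haveI : (tensE E).PreservesMonomorphisms := ⟨fun g _ => mono_tensE_map hE g⟩
  exact SiteCoh.extAdjEquiv_of_exact (tensorHomAdj E) G F p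

/-- Transport of Ext along an isomorphism of the first variable. -/
noncomputable def extCongrLeft {A A' : X.Modules} (v : A ≅ A') (B : X.Modules) (p : ℕ) :
    Ext A B p ≃+ Ext A' B p where
  toFun x := (Ext.mk₀ v.inv).comp x (zero_add p)
  invFun x := (Ext.mk₀ v.hom).comp x (zero_add p)
  left_inv x := by simp
  right_inv x := by simp
  map_add' x y := Ext.comp_add _ _ _ _

/-- Transport of Ext along an isomorphism of the second variable. -/
noncomputable def extCongrRight {B B' : X.Modules} (v : B ≅ B') (A : X.Modules) (p : ℕ) :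
    Ext A B p ≃+ Ext A B' p where
  toFun x := x.comp (Ext.mk₀ v.hom) (add_zero p)
  invFun x := x.comp (Ext.mk₀ v.inv) (add_zero p)
  left_inv x := by simp
  right_inv x := by simp
  map_add' x y := Ext.add_comp _ _ _ _

/-- `Ext^p(A, B) ≅ H^p(X, Hom(A, B))`. -/
theorem nonempty_ext_HH (hE : FlatMod.IsFinLocFree E) [DCoh.HasSheafHom E] (B : X.Modules) (p : ℕ) :
    Nonempty (Ext E B p ≃+ Coh.HH X ((DCoh.sheafHom E).obj B) p) := by
  obtain ⟨a⟩ := nonempty_ext_internalHom E hE ((freeModOn X).obj ⊤) B p
  let v : CohB1.tensorMod E ((freeModOn X).obj ⊤) ≅ E :=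
    (tensE E).mapIso (DQCoh.topStructIso X) ≪≫ tensorComm _ _ ≪≫ unitTensorIso E
  exact ⟨(extCongrLeft v B p).symm.trans (a.symm.trans ((extCongrRight ((sheafHomIso E).app B).symm _ p).trans
    (extHH ((DCoh.sheafHom E).obj B) p)))⟩

/-- `Ext^p(F ⊗ E, G) ≅ Ext^p(F, G ⊗ E^∨)`. -/
theorem nonempty_ext_tensor (hE : FlatMod.IsFinLocFree E) [ModSite.HasSheafHom (O := X.sheaf) E]
    (F G : X.Modules) (p : ℕ) :
    Nonempty (Ext (CohB1.tensorMod F E) G p ≃+
      Ext F (CohB1.tensorMod G ((ModSite.sheafHom (O := X.sheaf) E).obj (Coh.structureModule X))) p) := by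
  obtain ⟨a⟩ := nonempty_ext_internalHom E hE F G p
  obtain ⟨w⟩ := nonempty_internalHom_eq_tensor hE G
  let v : internalHom E G ≅ CohB1.tensorMod G ((ModSite.sheafHom (O := X.sheaf) E).obj (Coh.structureModule X)) :=
    w ≪≫ tensorComm _ _ ≪≫ (tensE G).mapIso ((msSheafHomIso E).app (Coh.structureModule X)).symm
  exact ⟨(extCongrLeft (tensorComm _ _) G p).trans (a.symm.trans (extCongrRight v F p))⟩

end Groth.Agent.ExtLF
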